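import Groth.Agent.Lib.ModM1.LocFree
import Groth.Agent.Lib.ModM1.Loc
import Groth.Agent.Lib.CohFound.ModulesInst
import Groth.Agent.Lib.FC16.Baer

/-!
# Restriction of scalars along a finite locally free sheaf of algebras preserves injectives

Baer's criterion: a partial morphism out of the free module on an open is given by sections
`(f, t)`; flatness of the algebra shows that `φ f ↦ g t` extends linearly to the left ideal they
generate, and injectivity over the algebra gives the value at the generator.
-/

set_option autoImplicit false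
set_option linter.style.haveILetI false
set_option backward.isDefEq.respectTransparency false
set_option backward.isDefEq.respectTransparency.types false
set_option maxHeartbeats 800000

universe u

open CategoryTheory CategoryTheory.Limits AlgebraicGeometry TopologicalSpace Opposite

noncomputable section

namespace Groth.Agent.OrdInj16

open Groth.Agent

variable {X : Scheme.{u}} {A : Sheaf (Opens.grothendieckTopology X) RingCat.{u}}
  (φ : X.ringCatSheaf ⟶ A)

/-- functions on an open -/
abbrev OX (X : Scheme.{u}) (W : X.Opens) : Type u := X.ringCatSheaf.obj.obj (op W)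

/-- sections of the algebra on an open -/
abbrev AA (A : Sheaf (Opens.grothendieckTopology X) RingCat.{u}) (W : X.Opens) : Type u :=
  A.obj.obj (op W)

/-- the structure map on sections -/
abbrev ph (W : X.Opens) : OX X W →+* AA A W := (φ.hom.app (op W)).hom

/-- the algebra as a module over the structure sheaf -/
abbrev RA : X.Modules := (SheafOfModules.restrictScalars φ).obj (SheafOfModules.unit A)

/-- Small affine opens on which the algebra is free. -/
theorem exists_free (hA : FlatMod.IsFinLocFree (X := X) (RA φ)) {x : X} {W : X.Opens} (hx : x ∈ W) :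
    ∃ W' : X.Opens, W' ≤ W ∧ x ∈ W' ∧ Module.Free Γ(X, W') Γ(RA φ, W') := by
  obtain ⟨U, n, hxU, ⟨e⟩⟩ := hA x
  haveI := M1.isFP_isQCoh (M1.isFP_of_isFinLocFree hA)
  obtain ⟨W', hW, hxW, hWU⟩ := exists_isAffineOpen_mem_and_subset (x := x) (U := U ⊓ W) ⟨hxU, hx⟩
  refine ⟨W', fun y hy => (hWU hy).2, hxW, ?_⟩
  have h : Set.range hW.fromSpec ⊆ Set.range U.ι := by
    rw [IsAffineOpen.range_fromSpec, Scheme.Opens.range_ι]; exact fun y hy => (hWU hy).1
  let l := IsOpenImmersion.lift U.ι hW.fromSpec h
  let e' : (RA φ).restrict hW.fromSpec ≅ (tilde.functor Γ(X, W')).obj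
      (ModuleCat.of Γ(X, W') (ULift.{u} (Fin n) →₀ Γ(X, W'))) :=
    (M1.restrictLiftIso (RA φ) U.ι hW.fromSpec h).symm ≪≫
    (Scheme.Modules.restrictFunctor l).mapIso (e ≪≫ M1.freeModFrIso _ _) ≪≫
      (M1.frRestrictIso l _).symm ≪≫ (M1.frTildeIso _).symm
  exact Module.Free.of_equiv
    (M := (ULift.{u} (Fin n) →₀ Γ(X, W')))
    (((tilde.isoTop _ ≪≫ moduleSpecΓFunctor.mapIso e'.symm).toLinearEquiv).trans
      (M1.affineSecEquiv (RA φ) hW))

/-- coordinates of the algebra over the structure sheaf on small opens -/
theorem exists_coords (hA : FlatMod.IsFinLocFree (X := X) (RA φ)) {x : X} {W : X.Opens} (hx : x ∈ W) :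
    ∃ W' : X.Opens, W' ≤ W ∧ x ∈ W' ∧
      ∃ (ι : Type u) (b : ι → AA A W') (co : AA A W' →+ (ι →₀ OX X W')),
        (∀ a, a = (co a).sum fun j c => ph φ W' c * b j) ∧
        ∀ (c : OX X W') (a : AA A W') (j : ι), co (ph φ W' c * a) j = c * co a j := by
  obtain ⟨W', hle, hxW, hfree⟩ := exists_free φ hA hx
  let b := Module.Free.chooseBasis Γ(X, W') Γ(RA φ, W')
  refine ⟨W', hle, hxW, Module.Free.ChooseBasisIndex Γ(X, W') Γ(RA φ, W'), fun j => b j,
    b.repr.toLinearMap.toAddMonoidHom, fun a => ?_, fun c a j => ?_⟩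
  · exact (b.linearCombination_repr a).symm
  · exact (DFunLike.congr_fun (b.repr.map_smul c a) j).trans (Finsupp.smul_apply _ _ _)

end Groth.Agent.OrdInj16
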