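import Groth.Agent.Lib.OrdInj16.Free
import Groth.Agent.Lib.ModM1.Loc
import Groth.Agent.Lib.CohFound.ModulesInst
import Groth.Agent.Lib.FC16.Baer
import Mathlib.Algebra.Category.ModuleCat.Presheaf.Submodule

/-!
# Restriction of scalars along a finite locally free sheaf of algebras preserves injectives

Baer's criterion: a partial morphism out of the free module on an open is given by sections
`(f, t)`; flatness of the algebra shows that `φ f ↦ g t` extends linearly to the left ideal they
generate, and injectivity over the algebra gives the value at the generator.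
-/

set_option autoImplicit false
set_option linter.style.haveILetI false
set_option backward.isDefEq.respectTransparency false
set_option backward.isDefEq.respectTransparency.types false
set_option maxHeartbeats 800000

universe u

open CategoryTheory CategoryTheory.Limits AlgebraicGeometry TopologicalSpace Opposite

noncomputable section

namespace Groth.Agent.OrdInj16

open Groth.Agent

variable {X : Scheme.{u}} {A : Sheaf (Opens.grothendieckTopology X) RingCat.{u}}
  (φ : X.ringCatSheaf ⟶ A)

variable (I : SheafOfModules.{u} A) {V : X.Opens}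

/-- the restricted module -/
abbrev RI : X.Modules := (SheafOfModules.restrictScalars φ).obj I

/-- the free presheaf of modules on an open -/
abbrev M0 (V : X.Opens) : PresheafOfModules.{u} X.ringCatSheaf.obj :=
  (PresheafOfModules.free X.ringCatSheaf.obj).obj (yoneda.obj V)

/-- the free module on an open -/
abbrev T (V : X.Opens) : SheafOfModules.{u} X.ringCatSheaf :=
  (PresheafOfModules.sheafification (𝟙 X.ringCatSheaf.obj)).obj (M0 V)

/-- its unit -/
abbrev eta (V : X.Opens) (W : X.Opens) :
    (M0 V).obj (op W) →+ (T V).val.obj (op W) :=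
  (((PresheafOfModules.sheafificationAdjunction (𝟙 X.ringCatSheaf.obj)).unit.app (M0 V)).app
    (op W)).hom.toAddMonoidHom

/-- the generator on a smaller open -/
def gen {W : X.Opens} (h : W ≤ V) : (T V).val.obj (op W) :=
  eta V W (ModuleCat.freeMk (homOfLE h))

variable {S : X.Modules} (i : S ⟶ T V) (g : S ⟶ RI φ I)

/-- sections of the source, sent to the module over the algebra -/
def gW (W : X.Opens) : S.val.obj (op W) →+ I.val.obj (op W) :=
  (g.val.app (op W)).hom.toAddMonoidHom

omit i in
theorem gW_smul {W : X.Opens} (c : OX X W) (t : S.val.obj (op W)) :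
    gW φ I g W (c • t) = ph φ W c • gW φ I g W t :=
  (g.val.app (op W)).hom.map_smul c t

omit i in
theorem gW_map {W W' : X.Opens} (h : W' ≤ W) (t : S.val.obj (op W)) :
    gW φ I g W' (S.val.map (homOfLE h).op t) = I.val.map (homOfLE h).op (gW φ I g W t) :=
  PresheafOfModules.naturality_apply g.val (homOfLE h).op t

/-- the pairs `(f, t)` with `i t = f • e` -/
def G (W : X.Opens) : Type u :=
  {p : OX X W × S.val.obj (op W) // ∃ h : W ≤ V, i.val.app (op W) p.2 = p.1 • gen h}

variable {i}

/-- restriction of a pair -/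
def G.res {W W' : X.Opens} (h : W' ≤ W) (p : G i W) : G i W' :=
  ⟨(X.ringCatSheaf.obj.map (homOfLE h).op p.1.1, S.val.map (homOfLE h).op p.1.2), by
    obtain ⟨hV, e⟩ := p.2
    refine ⟨h.trans hV, ?_⟩
    refine (PresheafOfModules.naturality_apply i.val (homOfLE h).op p.1.2).trans ?_
    refine (congrArg _ e).trans ?_
    refine ((T V).val.map_smul (homOfLE h).op _ _).trans ?_
    congr 1
    refine (PresheafOfModules.naturality_apply
      (((PresheafOfModules.sheafificationAdjunction (𝟙 X.ringCatSheaf.obj)).unit.app (M0 V)))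
      (homOfLE h).op (ModuleCat.freeMk (homOfLE hV))).symm.trans ?_
    show eta V W' _ = eta V W' _
    congr 1
    exact ModuleCat.freeDesc_apply _ _⟩

variable (hcen : ∀ (U : (Opens X)ᵒᵖ) (s : X.ringCatSheaf.obj.obj U) (a : A.obj.obj U),
      φ.hom.app U s * a = a * φ.hom.app U s)
  (hA : FlatMod.IsFinLocFree (X := X) (RA φ)) [Mono i]

include hcen hA in
/-- A relation among the `φ f` is a relation among the `g t`. -/
theorem rel {W : X.Opens} (s : Finset (G i W)) (a : G i W → AA A W)
    (h : ∑ p ∈ s, a p * ph φ W p.1.1 = 0) : ∑ p ∈ s, a p • gW φ I g W p.1.2 = 0 := by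
  classical
  choose W' hle hxW ι b co hco hsmul using fun x : W => exists_coords φ hA x.2
  refine M1.modules_eq_of_locally_eq (RI φ I) W W' hle
    (fun y hy => Opens.mem_iSup.2 ⟨⟨y, hy⟩, hxW ⟨y, hy⟩⟩) _ _ fun x => ?_
  change I.val.map (homOfLE (hle x)).op (∑ p ∈ s, a p • gW φ I g W p.1.2) =
    I.val.map (homOfLE (hle x)).op 0
  rw [map_zero, map_sum]
  let r := hle x
  let a' : G i W → AA A (W' x) := fun p => A.obj.map (homOfLE r).op (a p)
  let q : G i W → G i (W' x) := fun p => G.res r p
  rw [Finset.sum_congr rfl fun p _ => show I.val.map (homOfLE r).op (a p • gW φ I g W p.1.2) =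
      a' p • gW φ I g (W' x) (q p).1.2 by
    rw [I.val.map_smul]
    exact congrArg (a' p • ·) (gW_map φ I g r p.1.2).symm]
  have h' : ∑ p ∈ s, a' p * ph φ (W' x) (q p).1.1 = 0 := by
    have := congrArg (A.obj.map (homOfLE r).op).hom h
    rw [map_zero, map_sum] at this
    rw [← this]
    refine Finset.sum_congr rfl fun p _ => ?_
    rw [map_mul]
    exact congrArg (a' p * ·) (ConcreteCategory.congr_hom (φ.hom.naturality (homOfLE r).op) p.1.1)
  let cc : G i W → ι x →₀ OX X (W' x) := fun p => co x (a' p)
  let J := s.biUnion fun p => (cc p).support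
  have hexp : ∀ p ∈ s, a' p = ∑ j ∈ J, ph φ (W' x) (cc p j) * b x j := by
    intro p hp
    refine (hco x (a' p)).trans ?_
    exact Finsupp.sum_of_support_subset _
      (Finset.subset_biUnion_of_mem (fun p => (cc p).support) hp) _
      (fun j _ => by rw [map_zero, zero_mul])
  have hcoef : ∀ j, ∑ p ∈ s, (q p).1.1 * cc p j = 0 := by
    intro j
    have e : ∑ p ∈ s, ph φ (W' x) (q p).1.1 * a' p = 0 :=
      (Finset.sum_congr rfl fun p _ => hcen _ _ _).trans h'
    have e' := congrArg (fun m => co x m j) e
    simp only [map_sum, map_zero, Finsupp.finsetSum_apply, Finsupp.zero_apply] at e'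
    exact (Finset.sum_congr rfl fun p _ => (hsmul x _ _ j).symm).trans e'
  rw [Finset.sum_congr rfl fun p hp => show a' p • gW φ I g (W' x) (q p).1.2 =
      ∑ j ∈ J, b x j • gW φ I g (W' x) (cc p j • (q p).1.2) from
    (congrArg (· • gW φ I g (W' x) (q p).1.2) (hexp p hp)).trans (Finset.sum_smul.trans
      (Finset.sum_congr rfl fun j _ =>
        (congrArg (· • gW φ I g (W' x) (q p).1.2) (hcen (op (W' x)) (cc p j) (b x j))).trans
          ((mul_smul (b x j) _ _).trans
            (congrArg (b x j • ·) (gW_smul φ I g (cc p j) _).symm))))]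
  rw [Finset.sum_comm]
  refine Finset.sum_eq_zero fun j _ => ?_
  refine Finset.smul_sum.symm.trans ?_
  refine Eq.trans (congrArg (b x j • ·) (map_sum (gW φ I g (W' x)) _ _).symm) ?_
  have hz : (∑ p ∈ s, cc p j • (q p).1.2) = 0 := by
    haveI : Mono i.val :=
      inferInstanceAs (Mono ((SheafOfModules.forget X.ringCatSheaf).map i))
    refine PresheafOfModules.injective_of_mono (f := i.val) (X := op (W' x)) ?_
    rw [map_zero]
    refine (map_sum (i.val.app (op (W' x))).hom _ _).trans ?_
    by_cases hV : W' x ≤ V
    · refine (Finset.sum_congr rfl fun p _ => ?_).trans ((Finset.sum_smul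
        (f := fun p => (q p).1.1 * cc p j) (s := s) (x := gen hV)).symm.trans ?_)
      · obtain ⟨hV', e⟩ := (q p).2
        refine ((i.val.app (op (W' x))).hom.map_smul _ _).trans ?_
        refine (congrArg (cc p j • ·) e).trans ((mul_smul _ _ _).symm.trans ?_)
        exact congrArg (· • gen hV) (mul_comm (G := Γ(X, W' x)) _ _)
      · exact (congrArg (· • gen hV) (hcoef j)).trans (zero_smul _ _)
    · exact Finset.sum_eq_zero fun p _ => absurd (q p).2.1 hV
  rw [hz, map_zero, smul_zero]

variable (i)

/-- the left ideal generated by the `φ f` -/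
def Q : (PresheafOfModules.unit A.obj).Submodule where
  obj W := Submodule.span (AA A W.unop) (Set.range fun p : G i W.unop => ph φ W.unop p.1.1)
  map {W W'} f := by
    refine Submodule.span_le.2 ?_
    rintro _ ⟨p, rfl⟩
    refine Submodule.subset_span ⟨G.res (leOfHom f.unop) p, ?_⟩
    exact ConcreteCategory.congr_hom (φ.hom.naturality f) p.1.1

omit [Mono i] in
theorem exists_coeff {W : X.Opens} (x : (Q φ i).obj (op W)) :
    ∃ a : G i W →₀ AA A W,
      Finsupp.linearCombination (AA A W) (fun p : G i W => ph φ W p.1.1) a = x.1 :=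
  Finsupp.mem_span_range_iff_exists_finsupp.1 x.2

/-- the values -/
def lcI (W : X.Opens) : (G i W →₀ AA A W) →ₗ[AA A W] I.val.obj (op W) :=
  Finsupp.linearCombination (AA A W) (fun p : G i W => gW φ I g W p.1.2)

variable {i}

include hcen hA in
theorem lcI_congr {W : X.Opens} {a b : G i W →₀ AA A W}
    (h : Finsupp.linearCombination (AA A W) (fun p : G i W => ph φ W p.1.1) a =
      Finsupp.linearCombination (AA A W) (fun p : G i W => ph φ W p.1.1) b) :
    lcI φ I i g W a = lcI φ I i g W b := by
  rw [← sub_eq_zero, ← map_sub]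
  have h' := sub_eq_zero.2 h
  rw [← map_sub, Finsupp.linearCombination_apply] at h'
  rw [lcI, Finsupp.linearCombination_apply]
  exact rel φ I g hcen hA _ _ h'

/-- the map on the ideal -/
def hQ (W : X.Opens) : (Q φ i).obj (op W) →ₗ[AA A W] I.val.obj (op W) where
  toFun x := lcI φ I i g W (exists_coeff φ i x).choose
  map_add' x y := by
    rw [← map_add]
    refine lcI_congr φ I g hcen hA ?_
    rw [map_add, (exists_coeff φ i x).choose_spec, (exists_coeff φ i y).choose_spec,
      (exists_coeff φ i (x + y)).choose_spec]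
    rfl
  map_smul' c x := by
    rw [RingHom.id_apply, ← map_smul]
    refine lcI_congr φ I g hcen hA ?_
    rw [map_smul, (exists_coeff φ i x).choose_spec, (exists_coeff φ i (c • x)).choose_spec]
    rfl

theorem hQ_gen {W : X.Opens} (p : G i W) (hp : ph φ W p.1.1 ∈ (Q φ i).obj (op W)) :
    hQ φ I g hcen hA W ⟨_, hp⟩ = gW φ I g W p.1.2 := by
  classical
  refine (lcI_congr φ I g hcen hA (b := Finsupp.single p 1) ?_).trans ?_
  · rw [(exists_coeff φ i _).choose_spec, Finsupp.linearCombination_single, one_smul]
  · rw [lcI, Finsupp.linearCombination_single, one_smul]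

/-- the morphism on the ideal -/
def hHom : (Q φ i).toPresheafOfModules ⟶ I.val :=
  PresheafOfModules.homMk
    { app := fun W => AddCommGrpCat.ofHom (hQ φ I g hcen hA W.unop).toAddMonoidHom
      naturality := fun W W' f => by
        ext x
        obtain ⟨x, hx⟩ := x
        change hQ φ I g hcen hA W'.unop ⟨(PresheafOfModules.unit A.obj).map f x, _⟩ =
          I.val.map f (hQ φ I g hcen hA W.unop ⟨x, hx⟩)
        induction hx using Submodule.span_induction with
        | mem x h =>
          obtain ⟨p, rfl⟩ := h
          rw [hQ_gen]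
          refine Eq.trans ?_ (gW_map φ I g (leOfHom f.unop) p.1.2)
          refine Eq.trans ?_ (hQ_gen φ I g hcen hA (G.res (leOfHom f.unop) p)
            (Submodule.subset_span ⟨_, rfl⟩))
          exact congrArg (hQ φ I g hcen hA W'.unop)
            (Subtype.ext (ConcreteCategory.congr_hom (φ.hom.naturality f) p.1.1).symm)
        | zero =>
          exact ((congrArg (hQ φ I g hcen hA W'.unop) (Subtype.ext (map_zero _))).trans
            (map_zero _)).trans ((congrArg (I.val.map f) (map_zero (hQ φ I g hcen hA W.unop))).trans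
              (map_zero _)).symm
        | add x y hx hy ihx ihy =>
          exact (((congrArg (hQ φ I g hcen hA W'.unop) (Subtype.ext (map_add _ _ _))).trans
            (map_add (hQ φ I g hcen hA W'.unop) ⟨_, (Q φ i).map f hx⟩ ⟨_, (Q φ i).map f hy⟩)).trans
              (congrArg₂ (· + ·) ihx ihy)).trans ((congrArg (I.val.map f)
                (map_add (hQ φ I g hcen hA W.unop) ⟨x, hx⟩ ⟨y, hy⟩)).trans (map_add _ _ _)).symm
        | smul c x hx ih =>
          exact (((congrArg (hQ φ I g hcen hA W'.unop)
            (Subtype.ext ((PresheafOfModules.unit A.obj).map_smul _ _ _))).trans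
              ((hQ φ I g hcen hA W'.unop).map_smul _ ⟨_, (Q φ i).map f hx⟩)).trans
                (congrArg (A.obj.map f c • ·) ih)).trans ((congrArg (I.val.map f)
                  ((hQ φ I g hcen hA W.unop).map_smul c ⟨x, hx⟩)).trans (I.val.map_smul f c _)).symm }
    (fun W c x => (hQ φ I g hcen hA W.unop).map_smul c x)

include hcen hA in
/-- a single section represents the values -/
theorem exists_section [Injective I] : ∃ s : ∀ W : X.Opens, I.val.obj (op W),
    (∀ (W W' : X.Opens) (h : W' ≤ W), I.val.map (homOfLE h).op (s W) = s W') ∧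
    ∀ (W : X.Opens) (p : G i W), gW φ I g W p.1.2 = ph φ W p.1.1 • s W := by
  let L := PresheafOfModules.sheafification.{u} (𝟙 A.obj)
  let adj := PresheafOfModules.sheafificationAdjunction.{u} (𝟙 A.obj)
  let mA : L.obj (Q φ i).toPresheafOfModules ⟶ SheafOfModules.unit A :=
    L.map ((Q φ i).ι) ≫ adj.counit.app (SheafOfModules.unit A)
  haveI : IsIso (adj.counit.app (SheafOfModules.unit A)) := inferInstance
  haveI : Mono (L.map ((Q φ i).ι)) := inferInstance
  haveI : Mono mA := mono_comp _ _
  let Hs : L.obj (Q φ i).toPresheafOfModules ⟶ I :=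
    (adj.homEquiv _ _).symm (hHom φ I g hcen hA)
  let H := Injective.factorThru Hs mA
  have key : (Q φ i).ι ≫ H.val = hHom φ I g hcen hA := by
    have e1 : mA = (adj.homEquiv _ _).symm (Q φ i).ι := (adj.homEquiv_counit _ _ _).symm
    have e : (adj.homEquiv _ _) (mA ≫ H) = hHom φ I g hcen hA :=
      (congrArg (adj.homEquiv _ _) (Injective.comp_factorThru Hs mA)).trans
        (Equiv.apply_symm_apply _ _)
    have e2 := (adj.homEquiv_naturality_right mA H).symm.trans e
    rw [e1, Equiv.apply_symm_apply] at e2
    exact e2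
  refine ⟨fun W => H.val.app (op W) (1 : AA A W), fun W W' h => ?_, fun W p => ?_⟩
  · refine (PresheafOfModules.naturality_apply H.val (homOfLE h).op (1 : AA A W)).symm.trans ?_
    exact congrArg _ (PresheafOfModules.unit_map_one A.obj (homOfLE h).op)
  · have hp : ph φ W p.1.1 ∈ (Q φ i).obj (op W) := Submodule.subset_span ⟨p, rfl⟩
    refine (hQ_gen φ I g hcen hA p hp).symm.trans ?_
    refine (congrArg (fun k => k.app (op W) ⟨_, hp⟩) key).symm.trans ?_
    refine Eq.trans (congrArg (H.val.app (op W)) ?_)
      (LinearMap.map_smul (H.val.app (op W)).hom (ph φ W p.1.1) (1 : AA A W))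
    exact (mul_one (ph φ W p.1.1)).symm

include hcen hA in
/-- extension along a subobject of a free module -/
theorem exists_extension [Injective I] : ∃ ψ : (T V : X.Modules) ⟶ RI φ I, i ≫ ψ = g := by
  obtain ⟨s, hs, hgs⟩ := exists_section φ I g hcen hA (i := i)
  let β : M0 V ⟶ (RI φ I).val :=
    PresheafOfModules.freeObjDesc
      { app := fun W => TypeCat.ofHom fun _ => s W.unop
        naturality := fun W W' f => by
          ext e
          exact (hs _ _ (leOfHom f.unop)).symm }
  let adj := PresheafOfModules.sheafificationAdjunction.{u} (𝟙 X.ringCatSheaf.obj)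
  let ψ : (T V : X.Modules) ⟶ RI φ I := (adj.homEquiv _ _).symm β
  have hψ : ∀ (W : X.Opens) (z : (M0 V).obj (op W)),
      ψ.val.app (op W) (eta V W z) = β.app (op W) z := by
    intro W z
    have e : (adj.homEquiv _ _) ψ = β := Equiv.apply_symm_apply _ _
    rw [Adjunction.homEquiv_unit] at e
    exact congrArg (fun k => k.app (op W) z) e
  refine ⟨ψ, SheafOfModules.Hom.ext (PresheafOfModules.hom_ext fun W => ?_)⟩
  obtain ⟨W⟩ := W
  ext t
  change ψ.val.app (op W) (i.val.app (op W) t) = g.val.app (op W) t
  have hsurj : ∀ x : W, ∃ (W' : X.Opens) (h : W' ≤ W), x.1 ∈ W' ∧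
      ∃ z : (M0 V).obj (op W'), eta V W' z = (T V).val.map (homOfLE h).op (i.val.app (op W) t) := by
    intro x
    have hc := Presheaf.imageSieve_mem (Opens.grothendieckTopology X)
      (CategoryTheory.toSheafify (Opens.grothendieckTopology X) (M0 V).presheaf)
      (U := op W) (i.val.app (op W) t)
    obtain ⟨W', f, ⟨z, hz⟩, hx⟩ := hc x.1 x.2
    exact ⟨W', leOfHom f, hx, z, hz⟩
  choose W' hle hxW z hz using hsurj
  refine M1.modules_eq_of_locally_eq (RI φ I) W W' hle
    (fun y hy => Opens.mem_iSup.2 ⟨⟨y, hy⟩, hxW ⟨y, hy⟩⟩) _ _ fun x => ?_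
  change I.val.map (homOfLE (hle x)).op (ψ.val.app (op W) (i.val.app (op W) t)) =
    I.val.map (homOfLE (hle x)).op (gW φ I g W t)
  rw [← gW_map]
  refine (PresheafOfModules.naturality_apply ψ.val (homOfLE (hle x)).op
    (i.val.app (op W) t)).symm.trans ?_
  rw [← hz x, hψ]
  let t' : S.val.obj (op (W' x)) := S.val.map (homOfLE (hle x)).op t
  have hit : i.val.app (op (W' x)) t' = eta V (W' x) (z x) :=
    (PresheafOfModules.naturality_apply i.val (homOfLE (hle x)).op t).trans (hz x).symm
  by_cases hV : W' x ≤ V
  · haveI : Unique ((yoneda.obj V).obj (op (W' x))) :=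
      ⟨⟨homOfLE hV⟩, fun a => Subsingleton.elim (α := W' x ⟶ V) _ _⟩
    obtain ⟨f, hf⟩ : ∃ f : OX X (W' x), z x = f • ModuleCat.freeMk (homOfLE hV) :=
      ⟨(show (yoneda.obj V).obj (op (W' x)) →₀ OX X (W' x) from z x) default,
        (Finsupp.unique_single (show (yoneda.obj V).obj (op (W' x)) →₀ OX X (W' x) from z x)).trans
          ((Finsupp.smul_single_one _ _).symm)⟩
    rw [hf, map_smul]
    let p : G i (W' x) := ⟨(f, t'), hV, by
      rw [hit, hf]
      exact (((PresheafOfModules.sheafificationAdjunction
        (𝟙 X.ringCatSheaf.obj)).unit.app (M0 V)).app (op (W' x))).hom.map_smul f _⟩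
    refine Eq.trans ?_ (hgs _ p).symm
    exact congrArg (f • ·) (ModuleCat.freeDesc_apply _ _)
  · haveI : IsEmpty ((yoneda.obj V).obj (op (W' x))) := ⟨fun a => hV (leOfHom a)⟩
    have hz0 : z x = 0 := Finsupp.ext fun a => isEmptyElim a
    rw [hz0, map_zero]
    haveI : Mono i.val :=
      inferInstanceAs (Mono ((SheafOfModules.forget X.ringCatSheaf).map i))
    have ht : t' = 0 := PresheafOfModules.injective_of_mono (f := i.val) (X := op (W' x))
      (by rw [hit, hz0, map_zero, map_zero])
    exact (congrArg (gW φ I g (W' x)) ht |>.trans (map_zero _)).symm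

include hcen hA in
/-- Restriction of scalars preserves injective modules. -/
theorem injective_restrictScalars [Injective I] :
    Injective ((SheafOfModules.restrictScalars φ).obj I) := by
  let f : Opens X → SheafOfModules.{u} X.ringCatSheaf := fun V => T V
  have hf : ObjectProperty.IsSeparating (.ofObj f) := by
    intro M N a b h
    let adj := PresheafOfModules.sheafificationAdjunction.{u} (𝟙 X.ringCatSheaf.obj)
    apply (SheafOfModules.forget X.ringCatSheaf).map_injective
    refine PresheafOfModules.freeYoneda.isSeparating _ _ _ ?_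
    rintro _ ⟨V⟩ k
    have := congrArg (adj.homEquiv _ _) (h _ ⟨V⟩ ((adj.homEquiv _ M).symm k))
    simp only [Adjunction.homEquiv_naturality_right, Equiv.apply_symm_apply] at this
    exact this
  haveI : IsGrothendieckAbelian.{u} (SheafOfModules.{u} X.ringCatSheaf) :=
    CohFound.isGrothendieckAbelian_sheafOfModules _
  refine FC16.Baer.injective_of_isSeparating hf _ ?_
  rintro _ ⟨V⟩ S i _ g
  exact exists_extension φ I (i := i) g hcen hA

end Groth.Agent.OrdInj16
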